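import Mathlib

/-! # Coset enumeration for the (2,3,5) triangle group -/

set_option autoImplicit false

namespace Cfsg.Agent.Lib.Recog

section coset

variable {G : Type*} [Group G]

lemma cbase (t y : G) : t * 1 = y ^ 0 * t := by simp

lemma cchain {y ti tj tk u g : G} {a b : ℕ} (h1 : ti * u = y ^ a * tj) (h2 : tj * g = y ^ b * tk) :
    ti * (u * g) = y ^ (a + b) * tk := by
  rw [← mul_assoc, h1, mul_assoc, h2, ← mul_assoc, ← pow_add]

lemma csolve {y ti ta tb u g v : G} {a b c : ℕ} (hy : y ^ 5 = 1) (habc : 5 ∣ a + b + c) (hu : ti * u = y ^ a * ta)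
    (hv : tb * v = y ^ b * ti) (hr : u * g * v = 1) : ta * g = y ^ c * tb := by
  have h1 : y ^ a * (ta * g) * v = ti := by
    calc y ^ a * (ta * g) * v = (y ^ a * ta) * g * v := by simp only [mul_assoc]
      _ = ti * u * g * v := by rw [hu]
      _ = ti * (u * g * v) := by simp only [mul_assoc]
      _ = ti := by rw [hr, mul_one]
  have h2 : y ^ b * (y ^ a * (ta * g) * v) = tb * v := by rw [h1, hv]
  have h3 : y ^ b * (y ^ a * (ta * g)) = tb := by
    apply mul_right_cancel (b := v)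
    rw [← h2]
    simp only [mul_assoc]
  have h4 : y ^ c * (y ^ b * y ^ a) = 1 := by
    obtain ⟨k, hk⟩ := habc
    rw [← pow_add, ← pow_add, (by omega : c + (b + a) = 5 * k), pow_mul, hy, one_pow]
  calc ta * g = (y ^ c * (y ^ b * y ^ a)) * (ta * g) := by rw [h4, one_mul]
    _ = y ^ c * (y ^ b * (y ^ a * (ta * g))) := by simp only [mul_assoc]
    _ = y ^ c * tb := by rw [h3]

/-- The order of a group generated by two elements satisfying the relations of the (2,3,5) triangle group is at most 60. -/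
theorem a5_card_le (x y : G) (hx : x ^ 3 = 1) (hy : y ^ 5 = 1) (hxy : (x * y) ^ 2 = 1)
    (hgen : Subgroup.closure ({x, y} : Set G) = ⊤) : Finite G ∧ Nat.card G ≤ 60 := by
  have R1 : x * (x * x) = 1 := by
    rw [← hx]
    simp only [pow_succ, pow_zero, one_mul, mul_assoc]
  have R2 : y * (y * (y * (y * y))) = 1 := by
    rw [← hy]
    simp only [pow_succ, pow_zero, one_mul, mul_assoc]
  have R3 : x * (y * (x * y)) = 1 := by
    rw [← hxy]
    simp only [pow_succ, pow_zero, one_mul, mul_assoc]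
  obtain ⟨t0, ht0⟩ : ∃ t : G, t = 1 := ⟨_, rfl⟩
  have e0y : t0 * y = y ^ 1 * t0 := by
    rw [ht0]
    simp
  obtain ⟨t1, e0x⟩ : ∃ t, t0 * x = y ^ 0 * t := ⟨_, (by rw [pow_zero, one_mul] : t0 * x = y ^ 0 * (t0 * x))⟩
  obtain ⟨t2, e1x⟩ : ∃ t, t1 * x = y ^ 0 * t := ⟨_, (by rw [pow_zero, one_mul] : t1 * x = y ^ 0 * (t1 * x))⟩
  have e2x : t2 * x = y ^ 0 * t0 := csolve hy (by decide) (cchain (cchain (cbase t0 y) e0x) e1x) (cbase t0 y) (by simpa only [mul_assoc, one_mul, mul_one] using R1)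
  have e1y : t1 * y = y ^ 4 * t2 := csolve hy (by decide) (cchain (cbase t0 y) e0x) (cchain (cchain (cbase t2 y) e2x) e0y) (by simpa only [mul_assoc, one_mul, mul_one] using R3)
  obtain ⟨t3, e2y⟩ : ∃ t, t2 * y = y ^ 0 * t := ⟨_, (by rw [pow_zero, one_mul] : t2 * y = y ^ 0 * (t2 * y))⟩
  obtain ⟨t4, e3x⟩ : ∃ t, t3 * x = y ^ 0 * t := ⟨_, (by rw [pow_zero, one_mul] : t3 * x = y ^ 0 * (t3 * x))⟩
  have e4y : t4 * y = y ^ 0 * t1 := csolve hy (by decide) (cchain (cchain (cchain (cbase t1 y) e1x) e2y) e3x) (cbase t1 y) (by simpa only [mul_assoc, one_mul, mul_one] using R3)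
  obtain ⟨t5, e3y⟩ : ∃ t, t3 * y = y ^ 0 * t := ⟨_, (by rw [pow_zero, one_mul] : t3 * y = y ^ 0 * (t3 * y))⟩
  have e5y : t5 * y = y ^ 1 * t4 := csolve hy (by decide) (cchain (cchain (cchain (cbase t1 y) e1y) e2y) e3y) (cchain (cbase t4 y) e4y) (by simpa only [mul_assoc, one_mul, mul_one] using R2)
  obtain ⟨t6, e4x⟩ : ∃ t, t4 * x = y ^ 0 * t := ⟨_, (by rw [pow_zero, one_mul] : t4 * x = y ^ 0 * (t4 * x))⟩
  have e6x : t6 * x = y ^ 0 * t3 := csolve hy (by decide) (cchain (cchain (cbase t3 y) e3x) e4x) (cbase t3 y) (by simpa only [mul_assoc, one_mul, mul_one] using R1)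
  obtain ⟨t7, e5x⟩ : ∃ t, t5 * x = y ^ 0 * t := ⟨_, (by rw [pow_zero, one_mul] : t5 * x = y ^ 0 * (t5 * x))⟩
  have e7y : t7 * y = y ^ 0 * t6 := csolve hy (by decide) (cchain (cbase t5 y) e5x) (cchain (cchain (cbase t6 y) e6x) e3y) (by simpa only [mul_assoc, one_mul, mul_one] using R3)
  obtain ⟨t8, e6y⟩ : ∃ t, t6 * y = y ^ 0 * t := ⟨_, (by rw [pow_zero, one_mul] : t6 * y = y ^ 0 * (t6 * y))⟩
  have e8x : t8 * x = y ^ 4 * t5 := csolve hy (by decide) (cchain (cchain (cbase t4 y) e4x) e6y) (cchain (cbase t5 y) e5y) (by simpa only [mul_assoc, one_mul, mul_one] using R3)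
  have e7x : t7 * x = y ^ 1 * t8 := csolve hy (by decide) (cchain (cbase t5 y) e5x) (cchain (cbase t8 y) e8x) (by simpa only [mul_assoc, one_mul, mul_one] using R1)
  obtain ⟨t9, e8y⟩ : ∃ t, t8 * y = y ^ 0 * t := ⟨_, (by rw [pow_zero, one_mul] : t8 * y = y ^ 0 * (t8 * y))⟩
  obtain ⟨t10, e9x⟩ : ∃ t, t9 * x = y ^ 0 * t := ⟨_, (by rw [pow_zero, one_mul] : t9 * x = y ^ 0 * (t9 * x))⟩
  have e10y : t10 * y = y ^ 4 * t7 := csolve hy (by decide) (cchain (cchain (cchain (cbase t7 y) e7x) e8y) e9x) (cbase t7 y) (by simpa only [mul_assoc, one_mul, mul_one] using R3)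
  have e9y : t9 * y = y ^ 1 * t10 := csolve hy (by decide) (cchain (cbase t8 y) e8y) (cchain (cchain (cchain (cbase t10 y) e10y) e7y) e6y) (by simpa only [mul_assoc, one_mul, mul_one] using R2)
  obtain ⟨t11, e10x⟩ : ∃ t, t10 * x = y ^ 0 * t := ⟨_, (by rw [pow_zero, one_mul] : t10 * x = y ^ 0 * (t10 * x))⟩
  have e11x : t11 * x = y ^ 0 * t9 := csolve hy (by decide) (cchain (cchain (cbase t9 y) e9x) e10x) (cbase t9 y) (by simpa only [mul_assoc, one_mul, mul_one] using R1)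
  have e11y : t11 * y = y ^ 4 * t11 := csolve hy (by decide) (cchain (cbase t10 y) e10x) (cchain (cchain (cbase t11 y) e11x) e9y) (by simpa only [mul_assoc, one_mul, mul_one] using R3)
  let t : Fin 12 → G := ![t0, t1, t2, t3, t4, t5, t6, t7, t8, t9, t10, t11]
  have hstepx : ∀ q : G, (∃ (c : ℕ) (i : Fin 12), q = y ^ c * t i) → (∃ (c : ℕ) (i : Fin 12), q * x = y ^ c * t i) := by
    rintro q ⟨c, i, rfl⟩
    fin_cases i
    · exact ⟨c + 0, 1, by show y ^ c * t0 * x = y ^ (c + 0) * t1; rw [mul_assoc, e0x, ← mul_assoc, ← pow_add]⟩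
    · exact ⟨c + 0, 2, by show y ^ c * t1 * x = y ^ (c + 0) * t2; rw [mul_assoc, e1x, ← mul_assoc, ← pow_add]⟩
    · exact ⟨c + 0, 0, by show y ^ c * t2 * x = y ^ (c + 0) * t0; rw [mul_assoc, e2x, ← mul_assoc, ← pow_add]⟩
    · exact ⟨c + 0, 4, by show y ^ c * t3 * x = y ^ (c + 0) * t4; rw [mul_assoc, e3x, ← mul_assoc, ← pow_add]⟩
    · exact ⟨c + 0, 6, by show y ^ c * t4 * x = y ^ (c + 0) * t6; rw [mul_assoc, e4x, ← mul_assoc, ← pow_add]⟩
    · exact ⟨c + 0, 7, by show y ^ c * t5 * x = y ^ (c + 0) * t7; rw [mul_assoc, e5x, ← mul_assoc, ← pow_add]⟩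
    · exact ⟨c + 0, 3, by show y ^ c * t6 * x = y ^ (c + 0) * t3; rw [mul_assoc, e6x, ← mul_assoc, ← pow_add]⟩
    · exact ⟨c + 1, 8, by show y ^ c * t7 * x = y ^ (c + 1) * t8; rw [mul_assoc, e7x, ← mul_assoc, ← pow_add]⟩
    · exact ⟨c + 4, 5, by show y ^ c * t8 * x = y ^ (c + 4) * t5; rw [mul_assoc, e8x, ← mul_assoc, ← pow_add]⟩
    · exact ⟨c + 0, 10, by show y ^ c * t9 * x = y ^ (c + 0) * t10; rw [mul_assoc, e9x, ← mul_assoc, ← pow_add]⟩
    · exact ⟨c + 0, 11, by show y ^ c * t10 * x = y ^ (c + 0) * t11; rw [mul_assoc, e10x, ← mul_assoc, ← pow_add]⟩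
    · exact ⟨c + 0, 9, by show y ^ c * t11 * x = y ^ (c + 0) * t9; rw [mul_assoc, e11x, ← mul_assoc, ← pow_add]⟩
  have hstepy : ∀ q : G, (∃ (c : ℕ) (i : Fin 12), q = y ^ c * t i) → (∃ (c : ℕ) (i : Fin 12), q * y = y ^ c * t i) := by
    rintro q ⟨c, i, rfl⟩
    fin_cases i
    · exact ⟨c + 1, 0, by show y ^ c * t0 * y = y ^ (c + 1) * t0; rw [mul_assoc, e0y, ← mul_assoc, ← pow_add]⟩
    · exact ⟨c + 4, 2, by show y ^ c * t1 * y = y ^ (c + 4) * t2; rw [mul_assoc, e1y, ← mul_assoc, ← pow_add]⟩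
    · exact ⟨c + 0, 3, by show y ^ c * t2 * y = y ^ (c + 0) * t3; rw [mul_assoc, e2y, ← mul_assoc, ← pow_add]⟩
    · exact ⟨c + 0, 5, by show y ^ c * t3 * y = y ^ (c + 0) * t5; rw [mul_assoc, e3y, ← mul_assoc, ← pow_add]⟩
    · exact ⟨c + 0, 1, by show y ^ c * t4 * y = y ^ (c + 0) * t1; rw [mul_assoc, e4y, ← mul_assoc, ← pow_add]⟩
    · exact ⟨c + 1, 4, by show y ^ c * t5 * y = y ^ (c + 1) * t4; rw [mul_assoc, e5y, ← mul_assoc, ← pow_add]⟩
    · exact ⟨c + 0, 8, by show y ^ c * t6 * y = y ^ (c + 0) * t8; rw [mul_assoc, e6y, ← mul_assoc, ← pow_add]⟩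
    · exact ⟨c + 0, 6, by show y ^ c * t7 * y = y ^ (c + 0) * t6; rw [mul_assoc, e7y, ← mul_assoc, ← pow_add]⟩
    · exact ⟨c + 0, 9, by show y ^ c * t8 * y = y ^ (c + 0) * t9; rw [mul_assoc, e8y, ← mul_assoc, ← pow_add]⟩
    · exact ⟨c + 1, 10, by show y ^ c * t9 * y = y ^ (c + 1) * t10; rw [mul_assoc, e9y, ← mul_assoc, ← pow_add]⟩
    · exact ⟨c + 4, 7, by show y ^ c * t10 * y = y ^ (c + 4) * t7; rw [mul_assoc, e10y, ← mul_assoc, ← pow_add]⟩
    · exact ⟨c + 4, 11, by show y ^ c * t11 * y = y ^ (c + 4) * t11; rw [mul_assoc, e11y, ← mul_assoc, ← pow_add]⟩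
  have hxi : x⁻¹ = x * x := by
    rw [inv_eq_iff_mul_eq_one]
    exact R1
  have hyi : y⁻¹ = y * y * y * y := by
    rw [inv_eq_iff_mul_eq_one]
    simp only [mul_assoc]
    exact R2
  have hT : ∀ q : G, ∃ (c : ℕ) (i : Fin 12), q = y ^ c * t i := by
    intro q
    have hq : q ∈ Subgroup.closure ({x, y} : Set G) := by
      rw [hgen]
      trivial
    induction hq using Subgroup.closure_induction_right with
    | one =>
      refine ⟨0, 0, ?_⟩
      show (1 : G) = y ^ 0 * t0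
      rw [ht0]
      simp
    | mul_right q _ g hg ih =>
      rcases hg with rfl | hg
      · exact hstepx q ih
      · rw [Set.mem_singleton_iff] at hg
        subst hg
        exact hstepy q ih
    | mul_inv_cancel q _ g hg ih =>
      rcases hg with rfl | hg
      · rw [hxi, ← mul_assoc]
        exact hstepx _ (hstepx q ih)
      · rw [Set.mem_singleton_iff] at hg
        subst hg
        rw [hyi, ← mul_assoc, ← mul_assoc, ← mul_assoc]
        exact hstepy _ (hstepy _ (hstepy _ (hstepy q ih)))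
  let f : Fin 5 × Fin 12 → G := fun p => y ^ (p.1 : ℕ) * t p.2
  have hf : Function.Surjective f := by
    intro q
    obtain ⟨c, i, hq⟩ := hT q
    refine ⟨(⟨c % 5, Nat.mod_lt _ (by norm_num)⟩, i), ?_⟩
    show y ^ (c % 5) * t i = q
    rw [hq, ← pow_eq_pow_mod c hy]
  refine ⟨Finite.of_surjective f hf, ?_⟩
  have h1 := Nat.card_le_card_of_surjective f hf
  simpa using h1

end coset

end Cfsg.Agent.Lib.Recog
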