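import Mathlib

/-! # The trace lemma for Frobenius actions

If `y` acts fixed-point-freely (with all its powers) on `Q`, and `Q ⟨y⟩` acts on an abelian group `V`
where `|Q|` is invertible and `Q` has no non-zero fixed vector, then the trace `1 + y + ... + y^(n-1)`
of `y` is non-zero on `V` as soon as `V ≠ 0`.
-/

namespace Cfsg.Agent.Lib.Recog

theorem end_mul_apply' {V : Type*} [AddCommGroup V] (f g : AddMonoid.End V) (v : V) :
    (f * g) v = f (g v) := rfl

section core

variable {W V : Type*} [Group W] [AddCommGroup V]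

theorem trace_core (ρ : W →* AddMonoid.End V) (Q : Subgroup W) [Finite Q] (y : W) (n : ℕ) (hn : 0 < n)
    (hyQ : ∀ i : ℕ, ∀ a ∈ Q, y ^ i * a * (y ^ i)⁻¹ ∈ Q)
    (hfpf : ∀ i, 0 < i → i < n → ∀ a ∈ Q, y ^ i * a = a * y ^ i → a = 1)
    (hfix : ∀ v : V, (∀ a ∈ Q, ρ a v = v) → v = 0)
    (hcop : ∀ v : V, Nat.card Q • v = 0 → v = 0)
    (hT : ∀ v : V, ∑ i ∈ Finset.range n, ρ (y ^ i) v = 0) (v : V) : v = 0 := by
  classical
  letI : Fintype Q := Fintype.ofFinite Q
  have hS : ∀ w : V, ∑ c : Q, ρ (c : W) w = 0 := by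
    intro w
    apply hfix
    intro a ha
    rw [map_sum]
    refine Fintype.sum_equiv (Equiv.mulLeft (⟨a, ha⟩ : Q)) _ _ ?_
    intro c
    rw [← end_mul_apply', ← map_mul]
    rfl
  have hterm : ∀ i, 0 < i → i < n → ∑ b : Q, ρ ((b : W) * y ^ i * (b : W)⁻¹) v = 0 := by
    intro i hi0 hin
    let ψ : Q → Q := fun b => b * ⟨y ^ i * (b : W)⁻¹ * (y ^ i)⁻¹, hyQ i _ (Q.inv_mem b.2)⟩
    have hψinj : Function.Injective ψ := by
      intro b c hbc
      have h1 : (b : W) * (y ^ i * (b : W)⁻¹ * (y ^ i)⁻¹) = (c : W) * (y ^ i * (c : W)⁻¹ * (y ^ i)⁻¹) :=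
        congrArg Subtype.val hbc
      have h2 : y ^ i * ((c : W)⁻¹ * (b : W)) = ((c : W)⁻¹ * (b : W)) * y ^ i := by
        have h3 : (c : W)⁻¹ * ((b : W) * (y ^ i * (b : W)⁻¹ * (y ^ i)⁻¹)) * y ^ i * (b : W)
            = (c : W)⁻¹ * ((c : W) * (y ^ i * (c : W)⁻¹ * (y ^ i)⁻¹)) * y ^ i * (b : W) := by
          rw [h1]
        have e1 : (c : W)⁻¹ * ((b : W) * (y ^ i * (b : W)⁻¹ * (y ^ i)⁻¹)) * y ^ i * (b : W)
            = ((c : W)⁻¹ * (b : W)) * y ^ i := by group
        have e2 : (c : W)⁻¹ * ((c : W) * (y ^ i * (c : W)⁻¹ * (y ^ i)⁻¹)) * y ^ i * (b : W)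
            = y ^ i * ((c : W)⁻¹ * (b : W)) := by group
        rw [e1, e2] at h3
        exact h3.symm
      have h4 := hfpf i hi0 hin _ (Q.mul_mem (Q.inv_mem c.2) b.2) h2
      apply Subtype.ext
      exact (inv_mul_eq_one.mp h4).symm
    have hψ : Function.Bijective ψ := Finite.injective_iff_bijective.mp hψinj
    have h5 : ∀ b : Q, ρ ((b : W) * y ^ i * (b : W)⁻¹) v = ρ ((ψ b : Q) : W) (ρ (y ^ i) v) := by
      intro b
      rw [← end_mul_apply', ← map_mul]
      congr 2
      simp only [ψ, Subgroup.coe_mul]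
      group
    rw [Finset.sum_congr rfl (fun b _ => h5 b)]
    rw [Function.Bijective.sum_comp hψ (fun c : Q => ρ (c : W) (ρ (y ^ i) v))]
    exact hS _
  have htotal : ∑ b : Q, ∑ i ∈ Finset.range n, ρ ((b : W) * y ^ i * (b : W)⁻¹) v = 0 := by
    refine Finset.sum_eq_zero fun b _ => ?_
    have h6 : ∀ i, ρ ((b : W) * y ^ i * (b : W)⁻¹) v = ρ (b : W) (ρ (y ^ i) (ρ (b : W)⁻¹ v)) := by
      intro i
      rw [map_mul, map_mul]
      rfl
    rw [Finset.sum_congr rfl (fun i _ => h6 i), ← map_sum, hT, map_zero]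
  rw [Finset.sum_comm] at htotal
  obtain ⟨m, rfl⟩ : ∃ m, n = m + 1 := ⟨n - 1, by omega⟩
  rw [Finset.sum_range_succ'] at htotal
  rw [Finset.sum_eq_zero (fun i hi => hterm (i + 1) (by omega) (by
    have := Finset.mem_range.mp hi
    omega))] at htotal
  simp only [pow_zero, mul_one, mul_inv_cancel, map_one, zero_add] at htotal
  apply hcop
  have : (∑ _b : Q, (1 : AddMonoid.End V) v) = Nat.card Q • v := by
    simp [Nat.card_eq_fintype_card]
  rw [← this]
  exact htotal

end core

section group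

variable {G : Type*} [Group G] [Finite G]

theorem exists_fixed_of_frobenius (A Q : Subgroup G) (hA : IsMulCommutative A) (p : ℕ) (hp : p.Prime)
    (hAp : ∀ x ∈ A, x ^ p = 1) (hA1 : A ≠ ⊥) (y : G) (n : ℕ) (hn : 0 < n) (hyn : y ^ n = 1)
    (hyA : y ∈ Subgroup.normalizer (A : Set G)) (hQA : Q ≤ Subgroup.normalizer (A : Set G))
    (hyQ : y ∈ Subgroup.normalizer (Q : Set G))
    (hfix : ∀ x ∈ A, (∀ a ∈ Q, a * x = x * a) → x = 1)
    (hcop : Nat.Coprime (Nat.card Q) p)
    (hfpf : ∀ i, 0 < i → i < n → ∀ a ∈ Q, y ^ i * a = a * y ^ i → a = 1) :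
    ∃ x ∈ A, x ≠ 1 ∧ y * x = x * y := by
  classical
  letI cg : CommGroup A := { (inferInstance : Group A) with mul_comm := hA.is_comm.comm }
  let N : Subgroup G := Subgroup.normalizer (A : Set G)
  have hconj : ∀ w : N, ∀ x ∈ A, (w : G) * x * (w : G)⁻¹ ∈ A := fun w x hx =>
    (Subgroup.mem_normalizer_iff.mp w.2 x).mp hx
  let ρ : N →* AddMonoid.End (Additive A) :=
    { toFun := fun w => AddMonoidHom.mk' (fun v => Additive.ofMul ⟨(w : G) * (Additive.toMul v : A) * (w : G)⁻¹,
          hconj w _ (Additive.toMul v).2⟩) (by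
          intro u v
          apply Additive.toMul.injective
          apply Subtype.ext
          show (w : G) * (((Additive.toMul u : A) : G) * (Additive.toMul v : A)) * (w : G)⁻¹ =
            ((w : G) * (Additive.toMul u : A) * (w : G)⁻¹) * ((w : G) * (Additive.toMul v : A) * (w : G)⁻¹)
          group)
      map_one' := by
        ext v
        show ((1 : N) : G) * ((v : Additive A).toMul : A) * ((1 : N) : G)⁻¹ = _
        simp
      map_mul' := by
        intro a b
        ext v
        show ((a * b : N) : G) * ((v : Additive A).toMul : A) * ((a * b : N) : G)⁻¹ =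
          (a : G) * ((b : G) * ((v : Additive A).toMul : A) * (b : G)⁻¹) * (a : G)⁻¹
        simp only [Subgroup.coe_mul]
        group }
  have hρ : ∀ (w : N) (v : Additive A), (((ρ w v).toMul : A) : G) = (w : G) * ((v.toMul : A) : G) * (w : G)⁻¹ :=
    fun _ _ => rfl
  let Q' : Subgroup N := Q.subgroupOf N
  let y' : N := ⟨y, hyA⟩
  have hcardQ' : Nat.card Q' = Nat.card Q := by
    have hQ'eq : (Q'.map N.subtype) = Q := by
      rw [Subgroup.subgroupOf_map_subtype]
      exact inf_eq_left.mpr hQA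
    rw [← hQ'eq]
    exact (Nat.card_congr (Subgroup.equivMapOfInjective Q' N.subtype N.subtype_injective).toEquiv)
  have hvexp : ∀ v : Additive A, p • v = 0 := by
    intro v
    apply Additive.toMul.injective
    apply Subtype.ext
    exact hAp _ (v.toMul).2
  by_contra hcon
  push Not at hcon
  have hno : ∀ x ∈ A, y * x = x * y → x = 1 := by
    intro x hx hxy
    by_contra hne
    exact hne (by
      by_contra h
      exact hcon x hx h hxy)
  -- the trace vanishes
  have hT : ∀ v : Additive A, ∑ i ∈ Finset.range n, ρ (y' ^ i) v = 0 := by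
    intro v
    set t := ∑ i ∈ Finset.range n, ρ (y' ^ i) v with ht
    have hinv : ρ y' t = t := by
      rw [ht, map_sum]
      have h1 : ∀ i, ρ y' (ρ (y' ^ i) v) = ρ (y' ^ (i + 1)) v := by
        intro i
        rw [← end_mul_apply', ← map_mul, pow_succ']
      rw [Finset.sum_congr rfl (fun i _ => h1 i)]
      have h2 : y' ^ n = 1 := Subtype.ext (by simpa using hyn)
      obtain ⟨m, rfl⟩ : ∃ m, n = m + 1 := ⟨n - 1, by omega⟩
      rw [Finset.sum_range_succ, h2, map_one, Finset.sum_range_succ']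
      simp [pow_zero]
    have h3 := hno _ (t.toMul).2 (by
      have h4 := congrArg (fun z : Additive A => ((z.toMul : A) : G)) hinv
      simp only [hρ] at h4
      show y' * ((t.toMul : A) : G) = _
      have h5 : (y' : G) = y := rfl
      rw [h5] at h4 ⊢
      calc y * ((t.toMul : A) : G) = (y * ((t.toMul : A) : G) * y⁻¹) * y := by group
        _ = _ := by rw [h4])
    apply Additive.toMul.injective
    exact Subtype.ext h3
  have hall := trace_core ρ Q' y' n hn
    (by
      intro i a ha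
      rw [Subgroup.mem_subgroupOf] at ha ⊢
      have hy2 : y ^ i ∈ Subgroup.normalizer (Q : Set G) := Subgroup.pow_mem _ hyQ i
      exact (Subgroup.mem_normalizer_iff.mp hy2 _).mp ha)
    (by
      intro i hi0 hin a ha h
      apply Subtype.ext
      apply hfpf i hi0 hin _ (Subgroup.mem_subgroupOf.mp ha)
      have := congrArg Subtype.val h
      simpa using this)
    (by
      intro v hv
      apply Additive.toMul.injective
      apply Subtype.ext
      apply hfix _ (v.toMul).2
      intro a ha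
      have h6 := hv ⟨a, hQA ha⟩ (Subgroup.mem_subgroupOf.mpr ha)
      have h7 := congrArg (fun z : Additive A => ((z.toMul : A) : G)) h6
      simp only [hρ] at h7
      calc a * ((v.toMul : A) : G) = (a * ((v.toMul : A) : G) * a⁻¹) * a := by group
        _ = _ := by rw [h7])
    (by
      intro v hv
      rw [hcardQ'] at hv
      have h8 : Nat.card Q • v = 0 := hv
      have hc : Nat.Coprime (Nat.card Q) p := hcop
      obtain ⟨u, w, huw⟩ : ∃ u w : ℤ, (Nat.card Q : ℤ) * u + (p : ℤ) * w = 1 := by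
        refine ⟨Nat.gcdA (Nat.card Q) p, Nat.gcdB (Nat.card Q) p, ?_⟩
        have := Nat.gcd_eq_gcd_ab (Nat.card Q) p
        rw [hc] at this
        exact_mod_cast this.symm
      have : v = (1 : ℤ) • v := (one_smul ℤ v).symm
      rw [this, ← huw, add_smul, mul_smul, mul_smul]
      have h10 : ((Nat.card Q : ℕ) : ℤ) • (u • v) = u • ((Nat.card Q : ℕ) • v) := by
        rw [natCast_zsmul, smul_comm]
      have h11 : ((p : ℕ) : ℤ) • (w • v) = w • (p • v) := by
        rw [natCast_zsmul, smul_comm]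
      rw [h10, h11, h8, hvexp]
      simp)
    hT
  apply hA1
  rw [Subgroup.eq_bot_iff_forall]
  intro x hx
  have := hall (Additive.ofMul ⟨x, hx⟩)
  have h12 : ((⟨x, hx⟩ : A)) = 1 := this
  exact congrArg Subtype.val h12

end group

end Cfsg.Agent.Lib.Recog
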